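import Mathlib
import Groth.Prelude.Def_Curv2
import Groth.Agent.Lib.Helper39.BranchFibE

set_option autoImplicit false
set_option linter.style.haveILetI false
set_option linter.unusedSectionVars false
universe u

open CategoryTheory AlgebraicGeometry

namespace Groth.Agent.Lib.Helper39.DeltaSep

open Groth.Agent.Lib.Helper39.BranchFib Groth.Agent.Lib.Helper39

section RingPt

theorem exists_prime_and_lift (R : Type u) [CommRing R] [IsDomain R] (p : Ideal R) [p.IsPrime]
    (A : Type u) [CommRing A] [Algebra R A] [IsLocalization.AtPrime A p] [IsLocalRing A]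
    (L : Type u) [CommRing L] [Algebra R L] (hL : IsField L) [IsFractionRing R L]
    (R' : Type u) [CommRing R'] (g : R →+* R') (e : R' ≃+* integralClosure R L)
    (he : ∀ a, e (g a) = algebraMap R (integralClosure R L) a)
    (m' : Ideal (integralClosure A (FractionRing A))) [hm' : m'.IsMaximal] :
    ∃ q' : PrimeSpectrum R', q'.asIdeal.comap g = p ∧
      ∀ (κ : Type u) [Field κ] (ev : R' →+* κ), RingHom.ker ev = q'.asIdeal →
        ∃ φ : integralClosure A (FractionRing A) →+* κ, m' ≤ RingHom.ker φ ∧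
          ∀ r : R, φ (algebraMap A _ (algebraMap R A r)) = ev (g r) := by
  let _ := hL.toField
  obtain ⟨j, hj, hjc⟩ := exists_integralClosure_isLocalization R p L A
  have hes : ∀ a, e.symm (algebraMap R (integralClosure R L) a) = g a := fun a => by
    rw [← he, e.symm_apply_apply]
  have hcomapA : m'.comap (algebraMap A (integralClosure A (FractionRing A))) =
      IsLocalRing.maximalIdeal A :=
    IsLocalRing.eq_maximalIdeal (Ideal.isMaximal_comap_of_isIntegral_of_isMaximal (R := A) m')
  let q' : Ideal R' := m'.comap (j.comp (e : R' →+* integralClosure R L))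
  have hq'prime : q'.IsPrime := Ideal.comap_isPrime _ _
  have hq'g : q'.comap g = p := by
    ext a
    simp only [Ideal.mem_comap, q', RingHom.comp_apply, RingHom.coe_coe]
    rw [he, hjc, ← Ideal.mem_comap, hcomapA, IsLocalization.AtPrime.to_map_mem_maximal_iff A p]
  refine ⟨⟨q', hq'prime⟩, hq'g, ?_⟩
  intro κ _ ev hker
  letI := j.toAlgebra
  have hunit : ∀ y : Algebra.algebraMapSubmonoid (integralClosure R L) p.primeCompl,
      IsUnit ((ev.comp (e.symm : integralClosure R L →+* R')) y) := by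
    rintro ⟨_, s, hs, rfl⟩
    simp only [RingHom.comp_apply, RingHom.coe_coe]
    rw [hes]
    apply IsUnit.mk0
    intro h0
    have : g s ∈ q' := by
      have h1 : g s ∈ RingHom.ker ev := h0
      rwa [hker] at h1
    have h2 : s ∈ q'.comap g := this
    rw [hq'g] at h2
    exact hs h2
  let φ : integralClosure A (FractionRing A) →+* κ :=
    IsLocalization.lift (M := Algebra.algebraMapSubmonoid (integralClosure R L) p.primeCompl)
      (g := ev.comp (e.symm : integralClosure R L →+* R')) hunit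
  have hφj : ∀ b : integralClosure R L, φ (j b) = ev (e.symm b) := fun b =>
    IsLocalization.lift_eq (M := Algebra.algebraMapSubmonoid (integralClosure R L) p.primeCompl)
      hunit b
  refine ⟨φ, ?_, ?_⟩
  · intro a ha
    rw [RingHom.mem_ker]
    obtain ⟨⟨b, s⟩, hbs⟩ := IsLocalization.surj
      (Algebra.algebraMapSubmonoid (integralClosure R L) p.primeCompl) a
    have hbs' : a * j (s : integralClosure R L) = j b := hbs
    have hjb : j b ∈ m' := by
      rw [← hbs']
      exact m'.mul_mem_right _ ha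
    have hb : e.symm b ∈ q' := by
      simp only [Ideal.mem_comap, q', RingHom.comp_apply, RingHom.coe_coe]
      rw [e.apply_symm_apply]
      exact hjb
    have h0 : ev (e.symm b) = 0 := by
      have : e.symm b ∈ RingHom.ker ev := by rw [hker]; exact hb
      exact this
    have h1 : φ a * φ (j (s : integralClosure R L)) = 0 := by
      rw [← map_mul, hbs', hφj, h0]
    have h2 : IsUnit (φ (j (s : integralClosure R L))) := by
      rw [hφj]
      exact hunit s
    exact (h2.mul_left_eq_zero).mp h1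
  · intro r
    rw [← hjc, hφj, hes]

end RingPt

section Sch

variable (X : Scheme.{u}) [IsIntegral X]
  [QuasiCompact (X.fromSpecStalk (genericPoint X))]
  [QuasiSeparated (X.fromSpecStalk (genericPoint X))]

local notation "fξ" => X.fromSpecStalk (genericPoint X)

theorem exists_point_of_maximal (U : X.Opens) (hU : IsAffineOpen U) (x : X) (hxU : x ∈ U)
    (m' : Ideal (integralClosure (X.presheaf.stalk x) (FractionRing (X.presheaf.stalk x))))
    [hm' : m'.IsMaximal] :
    ∃ (x' : (fξ).normalization) (hx' : x' ∈ (fξ).fromNormalization ⁻¹ᵁ U)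
      (_ : (fξ).fromNormalization x' = x)
      (φ : integralClosure (X.presheaf.stalk x) (FractionRing (X.presheaf.stalk x)) →+*
        (fξ).normalization.residueField x'),
      m' ≤ RingHom.ker φ ∧
      ∀ r : Γ(X, U), φ (algebraMap (X.presheaf.stalk x) _ ((X.presheaf.germ U x hxU).hom r)) =
        ((fξ).normalization.evaluation ((fξ).fromNormalization ⁻¹ᵁ U) x' hx').hom
          (((fξ).fromNormalization.app U).hom r) := by
  have hξ : genericPoint X ∈ U :=
    ((genericPoint_spec X).mem_open_set_iff U.isOpen).mpr ⟨x, trivial, hxU⟩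
  have hW : IsAffineOpen ((fξ).fromNormalization ⁻¹ᵁ U) := hU.preimage _
  have : Nonempty U := ⟨⟨_, hξ⟩⟩
  letI algL := ((fξ).app U).hom.toAlgebra
  have hL := NormDimOne.isField_sections X U hξ
  have hfr := NormDimOne.isFractionRing_sections X U hU hξ
  letI algR := TopCat.Presheaf.algebra_section_stalk X.presheaf (⟨x, hxU⟩ : U)
  have hloc : IsLocalization.AtPrime (X.presheaf.stalk x) (hU.primeIdealOf ⟨x, hxU⟩).asIdeal :=
    hU.isLocalization_stalk ⟨x, hxU⟩
  obtain ⟨q', hq'g, hq'⟩ := exists_prime_and_lift Γ(X, U) (hU.primeIdealOf ⟨x, hxU⟩).asIdeal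
    (X.presheaf.stalk x) Γ(Spec (X.presheaf.stalk (genericPoint X)), (fξ) ⁻¹ᵁ U) hL
    Γ((fξ).normalization, (fξ).fromNormalization ⁻¹ᵁ U)
    ((fξ).fromNormalization.app U).hom
    ((fξ).normalizationObjIso hU).commRingCatIsoToRingEquiv (by
      intro a
      rw [Scheme.Hom.fromNormalization_app _ hU]
      show (((fξ).normalizationObjIso hU).inv ≫ ((fξ).normalizationObjIso hU).hom).hom _ = _
      rw [Iso.inv_hom_id]
      rfl) m'
  obtain ⟨E3, hE3⟩ := fibre_equiv X U hU x hxU
  let x'' := E3.symm ⟨q', hq'g⟩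
  have hx'W : x''.1 ∈ (fξ).fromNormalization ⁻¹ᵁ U := by
    show (fξ).fromNormalization x''.1 ∈ U
    rw [x''.2]; exact hxU
  have hq'eq : hW.primeIdealOf ⟨x''.1, hx'W⟩ = q' := by
    rw [← hE3 x'' hx'W]
    simp only [x'', Equiv.apply_symm_apply]
  obtain ⟨φ, hφ1, hφ2⟩ := hq' ((fξ).normalization.residueField x''.1)
    ((fξ).normalization.evaluation ((fξ).fromNormalization ⁻¹ᵁ U) x''.1 hx'W).hom (by
      rw [ker_evaluation _ hW x''.1 hx'W, hq'eq])
  exact ⟨x''.1, hx'W, x''.2, φ, hφ1, hφ2⟩

end Sch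

section KStr

variable {k : Type u} [Field k] {X Y : Scheme.{u}} [X.Over (Spec (CommRingCat.of k))]

theorem stalkMap_eq_germ (U : X.Opens) (x : X) (hxU : x ∈ U) (c : k) :
    Curv2.stalkMap k X x c = (X.presheaf.germ U x hxU).hom
      ((X.presheaf.map (homOfLE (le_top : U ≤ ⊤)).op).hom
        (Coh.toGlobal (X ↘ Spec (CommRingCat.of k)) c)) := by
  show (X.presheaf.germ ⊤ x (show x ∈ (⊤ : X.Opens) from trivial)).hom
    (Coh.toGlobal (X ↘ Spec (CommRingCat.of k)) c) = _
  exact (X.presheaf.germ_res_apply (homOfLE (le_top : U ≤ ⊤)) x hxU _).symm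

theorem resMap_comp (ν : Y ⟶ X) (U : X.Opens) (y : Y) (hy : y ∈ ν ⁻¹ᵁ U) (c : k) :
    letI : Y.Over (Spec (CommRingCat.of k)) := ⟨ν ≫ (X ↘ Spec (CommRingCat.of k))⟩
    Curv2.resMap k Y y c = (Y.evaluation (ν ⁻¹ᵁ U) y hy).hom ((ν.app U).hom
      ((X.presheaf.map (homOfLE (le_top : U ≤ ⊤)).op).hom
        (Coh.toGlobal (X ↘ Spec (CommRingCat.of k)) c))) := by
  letI : Y.Over (Spec (CommRingCat.of k)) := ⟨ν ≫ (X ↘ Spec (CommRingCat.of k))⟩
  show (Y.residue y).hom (Curv2.stalkMap k Y y c) = _
  rw [stalkMap_eq_germ (ν ⁻¹ᵁ U) y hy c]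
  have h1 : Coh.toGlobal (Y ↘ Spec (CommRingCat.of k)) c =
      (ν.appTop).hom (Coh.toGlobal (X ↘ Spec (CommRingCat.of k)) c) := by
    unfold Coh.toGlobal
    show ((ν ≫ (X ↘ Spec (CommRingCat.of k))).appTop).hom _ = _
    rw [Scheme.Hom.comp_appTop]
    rfl
  rw [h1]
  have h2 : (Y.presheaf.map (homOfLE (le_top : ν ⁻¹ᵁ U ≤ ⊤)).op).hom ((ν.appTop).hom
      (Coh.toGlobal (X ↘ Spec (CommRingCat.of k)) c)) =
      (ν.app U).hom ((X.presheaf.map (homOfLE (le_top : U ≤ ⊤)).op).hom
        (Coh.toGlobal (X ↘ Spec (CommRingCat.of k)) c)) := by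
    have := ν.naturality (homOfLE (le_top : U ≤ ⊤)).op
    exact (congr($(this).hom (Coh.toGlobal (X ↘ Spec (CommRingCat.of k)) c))).symm
  rw [h2]
  rfl

end KStr

end Groth.Agent.Lib.Helper39.DeltaSep
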