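import Mathlib
import Groth.Agent.S7654
import Groth.Agent.S7616
import Groth.Agent.Lib.Helper39.Nag.Main
import Groth.Agent.Lib.Helper88.Japanese3
import Groth.Agent.Lib.Helper39.DeltaBC.Mono

/-!
# δ-invariant under field base change with separable residue fields (ring level) (helper39)
-/

set_option autoImplicit false
set_option linter.style.haveILetI false
set_option linter.unusedSectionVars false
universe u

namespace Groth.Agent.Lib.Helper39.DeltaSep

open TensorProduct IsLocalRing

section Iso

theorem deltaInv_le_of_ringEquiv {B B' : Type u} [CommRing B] [CommRing B'] (e : B ≃+* B') :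
    Curv2.deltaInv B ≤ Curv2.deltaInv B' := by
  letI := e.toRingHom.toAlgebra
  let l : B' ≃ₗ[B] B :=
    { e.symm with
      map_smul' := fun b y => by
        show e.symm (e b * y) = b * e.symm y
        rw [map_mul, e.symm_apply_apply] }
  haveI : Module.FaithfullyFlat B B' := Module.FaithfullyFlat.of_linearEquiv B B l
  exact DeltaBC.deltaInv_le_of_faithfullyFlat B B'

theorem deltaInv_eq_of_ringEquiv {B B' : Type u} [CommRing B] [CommRing B'] (e : B ≃+* B') :
    Curv2.deltaInv B = Curv2.deltaInv B' :=
  le_antisymm (deltaInv_le_of_ringEquiv e) (deltaInv_le_of_ringEquiv e.symm)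

end Iso

section Nagata

theorem isNagata_of_essFiniteType (k A : Type u) [Field k] [CommRing A] [Algebra k A]
    [Algebra.EssFiniteType k A] : CAlg.IsNagata A := by
  have h1 : CAlg.IsNagata (Algebra.EssFiniteType.subalgebra k A) :=
    Nag.isNagata_of_finiteType k (Groth.Agent.S7616.isNagata_field k) _
  exact Groth.Agent.Lib.Helper88.isNagata_of_isLocalization _
    (Algebra.EssFiniteType.submonoid k A) A h1

end Nagata

section Main

variable (k K A : Type u) [Field k] [Field K] [Algebra k K] [CommRing A] [Algebra k A]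

attribute [local instance] Algebra.TensorProduct.rightAlgebra in
theorem isReduced_localization_tensor (F : Type u) [CommRing F] [Algebra A F] [Algebra k F]
    [IsScalarTower k A F] (M : Ideal (A ⊗[k] K)) [M.IsPrime] (h : IsReduced (F ⊗[k] K)) :
    IsReduced (Localization.AtPrime M ⊗[A] F) := by
  -- P := (A ⊗ K) ⊗[A] F ≃ F ⊗[A] (A ⊗[k] K) ≃ F ⊗[k] K
  let e1 : (A ⊗[k] K) ⊗[A] F ≃ₐ[A] F ⊗[A] (A ⊗[k] K) := Algebra.TensorProduct.comm A _ _
  let e2 : F ⊗[A] (A ⊗[k] K) ≃ₐ[F] F ⊗[k] K := Algebra.TensorProduct.cancelBaseChange k A F F K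
  have hP : IsReduced ((A ⊗[k] K) ⊗[A] F) :=
    isReduced_of_injective ((e2 : F ⊗[A] (A ⊗[k] K) →+* F ⊗[k] K).comp
      (e1 : (A ⊗[k] K) ⊗[A] F →+* F ⊗[A] (A ⊗[k] K)))
      (e2.injective.comp e1.injective)
  have hloc : IsLocalization (Algebra.algebraMapSubmonoid ((A ⊗[k] K) ⊗[A] F) M.primeCompl)
      (Localization.AtPrime M ⊗[A ⊗[k] K] ((A ⊗[k] K) ⊗[A] F)) :=
    IsLocalization.tensorRight (R := A ⊗[k] K) (S := (A ⊗[k] K) ⊗[A] F)
      (Localization.AtPrime M) M.primeCompl
  have hQ : IsReduced (Localization.AtPrime M ⊗[A ⊗[k] K] ((A ⊗[k] K) ⊗[A] F)) :=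
    isReduced_localizationPreserves (Algebra.algebraMapSubmonoid ((A ⊗[k] K) ⊗[A] F) M.primeCompl)
      (Localization.AtPrime M ⊗[A ⊗[k] K] ((A ⊗[k] K) ⊗[A] F)) hP
  let e3 : Localization.AtPrime M ⊗[A ⊗[k] K] ((A ⊗[k] K) ⊗[A] F) ≃ₐ[A ⊗[k] K]
      Localization.AtPrime M ⊗[A] F :=
    Algebra.TensorProduct.cancelBaseChange A (A ⊗[k] K) (A ⊗[k] K) (Localization.AtPrime M) F
  exact isReduced_of_injective e3.symm.toRingEquiv.toRingHom e3.symm.toRingEquiv.injective

/-- every prime of a one-dimensional local ring containing a nonzerodivisor is the maximal ideal -/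
theorem eq_maximalIdeal_of_mem_nonZeroDivisors {B : Type u} [CommRing B] [IsLocalRing B]
    (hdim : ringKrullDim B = 1) (q : Ideal B) [q.IsPrime] (b : B) (hb : b ∈ nonZeroDivisors B)
    (hbq : b ∈ q) : q = maximalIdeal B := by
  have h1 : Ring.KrullDimLE 1 B := by
    rw [Ring.krullDimLE_iff, hdim]; rfl
  rcases Ring.krullDimLE_one_iff.mp h1 q inferInstance with h | h
  · exact absurd hbq (fun hbq => Set.disjoint_left.mp
      (Ideal.disjoint_nonZeroDivisors_of_mem_minimalPrimes h) hbq hb)
  · exact IsLocalRing.eq_maximalIdeal h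

theorem algebraMap_mem_nonZeroDivisors_of_flat {A B : Type*} [CommRing A] [CommRing B] [Algebra A B]
    [Module.Flat A B] (a : A) (ha : a ∈ nonZeroDivisors A) :
    algebraMap A B a ∈ nonZeroDivisors B := by
  rw [mem_nonZeroDivisors_iff_right]
  intro z hz
  have h1 : IsSMulRegular B a := Module.Flat.isSMulRegular_of_nonZeroDivisors ha
  apply h1.right_eq_zero_of_smul
  rw [Algebra.smul_def, mul_comm]
  exact hz

variable [IsLocalRing A] [IsDomain A]

theorem map_maximalIdeal_eq [Algebra.EssFiniteType k A] (hdim : ringKrullDim A = 1)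
    (M : Ideal (A ⊗[k] K)) [M.IsPrime]
    (hM : M.comap (algebraMap A (A ⊗[k] K)) = maximalIdeal A)
    (hdimB : ringKrullDim (Localization.AtPrime M) = 1)
    (hres : IsReduced ((A ⧸ maximalIdeal A) ⊗[k] K)) :
    (maximalIdeal A).map (algebraMap A (Localization.AtPrime M)) =
      maximalIdeal (Localization.AtPrime M) := by
  have hcomapB : (maximalIdeal (Localization.AtPrime M)).comap
      (algebraMap A (Localization.AtPrime M)) = maximalIdeal A := by
    have h1 : (maximalIdeal (Localization.AtPrime M)).comap
        (algebraMap (A ⊗[k] K) (Localization.AtPrime M)) = M :=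
      IsLocalization.AtPrime.under_maximalIdeal (Localization.AtPrime M) M
    rw [IsScalarTower.algebraMap_eq A (A ⊗[k] K) (Localization.AtPrime M), ← Ideal.comap_comap,
      h1, hM]
  have hle : (maximalIdeal A).map (algebraMap A (Localization.AtPrime M)) ≤
      maximalIdeal (Localization.AtPrime M) := by
    rw [Ideal.map_le_iff_le_comap, hcomapB]
  haveI : Module.Flat (A ⊗[k] K) (Localization.AtPrime M) := IsLocalization.flat _ M.primeCompl
  haveI : Module.Flat A (Localization.AtPrime M) := Module.Flat.trans A (A ⊗[k] K) _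
  -- radical
  have hrad : ((maximalIdeal A).map (algebraMap A (Localization.AtPrime M))).IsRadical := by
    rw [Ideal.isRadical_iff_quotient_reduced]
    have h1 : IsReduced (Localization.AtPrime M ⊗[A] (A ⧸ maximalIdeal A)) :=
      isReduced_localization_tensor k K A (A ⧸ maximalIdeal A) M hres
    let e := Algebra.TensorProduct.quotIdealMapEquivTensorQuot (Localization.AtPrime M)
      (maximalIdeal A)
    exact isReduced_of_injective e.toRingEquiv.toRingHom e.toRingEquiv.injective
  -- a nonzero element of the maximal ideal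
  have hne : maximalIdeal A ≠ ⊥ := by
    intro h
    have hf : IsField A := IsLocalRing.isField_iff_maximalIdeal_eq.mpr h
    rw [ringKrullDim_eq_zero_of_isField hf] at hdim
    exact zero_ne_one hdim
  obtain ⟨a, ha, ha0⟩ := Submodule.exists_mem_ne_zero_of_ne_bot hne
  have hb : algebraMap A (Localization.AtPrime M) a ∈ nonZeroDivisors (Localization.AtPrime M) :=
    algebraMap_mem_nonZeroDivisors_of_flat a (mem_nonZeroDivisors_of_ne_zero ha0)
  apply le_antisymm hle
  rw [← hrad.radical, Ideal.radical_eq_sInf]
  apply le_sInf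
  rintro q ⟨hq1, hq2⟩
  haveI := hq2
  rw [eq_maximalIdeal_of_mem_nonZeroDivisors hdimB q _ hb (hq1 (Ideal.mem_map_of_mem _ ha))]

theorem isReduced_residue_tensor
    (hsep : ∀ (m' : Ideal (integralClosure A (FractionRing A))) [m'.IsMaximal],
       IsReduced ((integralClosure A (FractionRing A) ⧸ m') ⊗[k] K)) :
    IsReduced ((A ⧸ maximalIdeal A) ⊗[k] K) := by
  obtain ⟨m', hm'⟩ := Ideal.exists_maximal (integralClosure A (FractionRing A))
  have hcomap : m'.comap (algebraMap A (integralClosure A (FractionRing A))) = maximalIdeal A :=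
    IsLocalRing.eq_maximalIdeal (Ideal.isMaximal_comap_of_isIntegral_of_isMaximal (R := A) m')
  let f : (A ⧸ maximalIdeal A) →ₐ[k] (integralClosure A (FractionRing A) ⧸ m') :=
    Ideal.quotientMapₐ m' (IsScalarTower.toAlgHom k A (integralClosure A (FractionRing A)))
      (le_of_eq hcomap.symm)
  letI : Field (A ⧸ maximalIdeal A) := Ideal.Quotient.field _
  haveI : Nontrivial (integralClosure A (FractionRing A) ⧸ m') :=
    Ideal.Quotient.nontrivial_iff.mpr hm'.ne_top
  have hf : Function.Injective f := f.toRingHom.injective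
  have hinj : Function.Injective (Algebra.TensorProduct.map f (AlgHom.id k K)) := by
    have := Module.Flat.rTensor_preserves_injective_linearMap (M := K) f.toLinearMap hf
    exact this
  have := hsep m'
  exact isReduced_of_injective (Algebra.TensorProduct.map f (AlgHom.id k K)) hinj

theorem deltaInv_localization_tensor_eq [Algebra.EssFiniteType k A] (hdim : ringKrullDim A = 1)
    (M : Ideal (A ⊗[k] K)) [M.IsPrime]
    (hM : M.comap (algebraMap A (A ⊗[k] K)) = maximalIdeal A)
    (hdimB : ringKrullDim (Localization.AtPrime M) = 1)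
    (hsep : ∀ (m' : Ideal (integralClosure A (FractionRing A))) [m'.IsMaximal],
       IsReduced ((integralClosure A (FractionRing A) ⧸ m') ⊗[k] K)) :
    Curv2.deltaInv (Localization.AtPrime M) = Curv2.deltaInv A := by
  have hN : CAlg.IsNagata A := isNagata_of_essFiniteType k A
  haveI : IsNoetherianRing (A ⊗[k] K) := by
    haveI : IsNoetherianRing (K ⊗[k] A) := Algebra.EssFiniteType.isNoetherianRing K _
    exact isNoetherianRing_of_ringEquiv _ (Algebra.TensorProduct.comm k K A).toRingEquiv
  haveI : IsNoetherianRing (Localization.AtPrime M) :=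
    IsLocalization.isNoetherianRing M.primeCompl _ inferInstance
  haveI : Module.Flat (A ⊗[k] K) (Localization.AtPrime M) := IsLocalization.flat _ M.primeCompl
  haveI : Module.Flat A (Localization.AtPrime M) := Module.Flat.trans A (A ⊗[k] K) _
  have hm := map_maximalIdeal_eq k K A hdim M hM hdimB (isReduced_residue_tensor k K A hsep)
  exact Groth.Agent.S7654.T7654.deltaInv_eq_of_flat A (Localization.AtPrime M) hN hdim hm
    (fun m' _ => isReduced_localization_tensor k K A
      (integralClosure A (FractionRing A) ⧸ m') M (hsep m'))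

theorem deltaInv_localization_tensor_eq' [Algebra.EssFiniteType k A] (hdim : ringKrullDim A = 1)
    (M : Ideal (K ⊗[k] A)) [M.IsPrime]
    (hM : M.comap (Algebra.TensorProduct.includeRight (R := k) (A := K) (B := A)).toRingHom =
      maximalIdeal A)
    (hdimB : ringKrullDim (Localization.AtPrime M) = 1)
    (hsep : ∀ (m' : Ideal (integralClosure A (FractionRing A))) [m'.IsMaximal],
       IsReduced (K ⊗[k] (integralClosure A (FractionRing A) ⧸ m'))) :
    Curv2.deltaInv (Localization.AtPrime M) = Curv2.deltaInv A := by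
  let c : A ⊗[k] K ≃ₐ[k] K ⊗[k] A := Algebra.TensorProduct.comm k A K
  let M' : Ideal (A ⊗[k] K) := M.comap c.toRingEquiv.toRingHom
  haveI : M'.IsPrime := Ideal.comap_isPrime _ _
  have hM' : M'.comap (algebraMap A (A ⊗[k] K)) = maximalIdeal A := by
    rw [← hM]
    ext a
    simp only [Ideal.mem_comap, M']
    rfl
  let e : Localization.AtPrime M' ≃+* Localization.AtPrime M :=
    IsLocalization.ringEquivOfRingEquiv (M := M'.primeCompl) (T := M.primeCompl)
      (Localization.AtPrime M') (Localization.AtPrime M) c.toRingEquiv (by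
        ext b
        simp only [Submonoid.mem_map, M']
        constructor
        · rintro ⟨a, ha, rfl⟩
          exact ha
        · intro hb
          refine ⟨c.symm b, ?_, ?_⟩
          · show c.toRingEquiv (c.symm b) ∉ M
            have : c.toRingEquiv (c.symm b) = b := c.apply_symm_apply b
            rw [this]
            exact hb
          · exact c.apply_symm_apply b)
  rw [← deltaInv_eq_of_ringEquiv e]
  apply deltaInv_localization_tensor_eq k K A hdim M' hM'
    (by rw [ringKrullDim_eq_of_ringEquiv e]; exact hdimB)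
  intro m' _
  have := hsep m'
  exact isReduced_of_injective
    (Algebra.TensorProduct.comm k (integralClosure A (FractionRing A) ⧸ m') K).toAlgHom
    (Algebra.TensorProduct.comm k (integralClosure A (FractionRing A) ⧸ m') K).injective

end Main

end Groth.Agent.Lib.Helper39.DeltaSep
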